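import Cfsg.Agent.Lib.TC.Enc

namespace Cfsg.Agent.Lib.Schur.U62.S3.CT0

open Cfsg.Agent.Lib.TC.Enc

set_option maxRecDepth 100000

/-- A part of the chunks of the certificate. -/
noncomputable def tree : Tr Nat :=
(Tr.leaf (nat_lit 0x790289cd50a9aa08b3385ea7c9d4f0fa9d580289accd25999035370e2585ccc079973702898c4a218932b124066560bc803891950289ebc7475894ef1a8de300c479b68a940289eb43c74834ed0c8da14fb423f78bb3028a49be017886eb02cd6017abfab47db1028a48bb016826e8f4cd1e5793bbf57e1102880abd9d374226e624dc829b8bf170af028a47b4bb26e6e4dacc1ae0a3c2b26a2f02880a3aa11672a2cc3459607b20136fad028a46aebb0626dcc10c9b1782fab05e8c0288093446c574deb68b56408b19af58ab028a45a8bae558a0c2cb9517729aae528a0288082e46a4b4d69d0bd68f6a69ad4c4a0289a62480f56318910a914562386c4688028807284684089a9e8ad0cf5a11ab41680289c51f00d4a8907403110949e0ea3b660289c49c2893788c665a4da051e8e734260289841880b3f01472320c203170282f650289c3962872b88a5059ca89394be935440289a313246250126509088041686523430289a2902451f00e4f08c74528f3e624030289620d9c41a2083201884220c3e317220289818aa03142862601472010900416810289e1084610c4c41e8883801889a20da0028a40030020b6c214c842570842a1070002880082d2004a00073800a6000ca000))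

end Cfsg.Agent.Lib.Schur.U62.S3.CT0
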